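/-
Subgroups of `GL(2, p²)` with non-abelian projective derived group: two non-commuting unipotents or `A₄`, `S₄`, `A₅`.
-/
import Cfsg.Agent.Lib.MaxSub.SLThree.Hess.Dichot

set_option autoImplicit false
set_option maxHeartbeats 800000
set_option linter.unusedSectionVars false

namespace CfsgLib.MaxSub.SU3Max.Hess

open Matrix CfsgLib.DicksonFull
open CfsgLib.MaxSub.SLThree.Hess (NiceThree a4_derived s4_nice a5_nice nice_of_equiv dihedral_derived)
open scoped commutatorElement

variable {F : Type*} [Field F] [Fintype F] {p : ℕ} [Fact p.Prime] [CharP F p]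

/-- The field of squares. -/
abbrev KK (p : ℕ) [Fact p.Prime] := GaloisField p 4

theorem exists_hom (hF : Fintype.card F = p ^ 2) : ∃ f : F →+* KK p, ∀ a : F, IsSquare (f a) := by
  classical
  haveI := Fintype.ofFinite (KK p)
  letI := ZMod.algebra F p
  have hcard : Fintype.card (KK p) = p ^ 4 := by
    rw [← Nat.card_eq_fintype_card, GaloisField.card p 4 (by norm_num)]
  have hn : Module.finrank (ZMod p) F = 2 := by
    have h1 := Module.card_eq_pow_finrank (K := ZMod p) (V := F)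
    rw [hF, ZMod.card] at h1
    exact (Nat.pow_right_injective (Fact.out : p.Prime).two_le h1).symm
  obtain ⟨g⟩ := FiniteField.nonempty_algHom_of_finrank_dvd (F := ZMod p) (K := F) (L := KK p)
    (by rw [hn, GaloisField.finrank p (by norm_num)]; norm_num)
  refine ⟨g.toRingHom, fun a => ?_⟩
  set f := g.toRingHom
  by_cases ha : f a = 0
  · rw [ha]; exact IsSquare.zero
  by_cases h2 : p = 2
  · exact FiniteField.isSquare_of_char_two (by subst h2; exact ringChar.eq _ 2) _
  rw [FiniteField.isSquare_iff (by rw [ringChar.eq _ p]; exact h2) ha, hcard]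
  have hodd : p % 2 = 1 := (Fact.out : p.Prime).eq_two_or_odd.resolve_left h2
  obtain ⟨m, hm⟩ : p ^ 2 - 1 ∣ p ^ 4 / 2 := by
    obtain ⟨k, rfl⟩ : ∃ k, p = 2 * k + 1 := ⟨p / 2, by omega⟩
    refine ⟨2 * k ^ 2 + 2 * k + 1, ?_⟩
    rw [show (2 * k + 1) ^ 2 = 4 * (k * (k + 1)) + 1 by ring, Nat.add_sub_cancel,
      show (2 * k + 1) ^ 4 = 1 + 2 * (4 * (k * (k + 1)) * (2 * k ^ 2 + 2 * k + 1)) by ring,
      Nat.add_mul_div_left _ _ two_pos]
    norm_num
  have hpa : a ^ (p ^ 2 - 1) = 1 := by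
    have := FiniteField.pow_card_sub_one_eq_one a (fun h => ha (by rw [h, map_zero]))
    rwa [hF] at this
  rw [hm, pow_mul, ← map_pow, hpa, map_one, one_pow]

/-- The projective map into `PSL(2, p²)`. -/
theorem exists_proj (hF : Fintype.card F = p ^ 2) :
    ∃ ι : GL (Fin 2) F →* Matrix.ProjectiveSpecialLinearGroup (Fin 2) (KK p),
      ∀ A : GL (Fin 2) F, ι A = 1 ↔ ∃ a : F, A.1 = a • (1 : Matrix (Fin 2) (Fin 2) F) := by
  classical
  obtain ⟨f, hf⟩ := exists_hom (p := p) hF
  choose r hr using hf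
  have hdet : ∀ A : GL (Fin 2) F, (A.1.map f).det = r A.1.det * r A.1.det := fun A => by
    rw [← hr, RingHom.map_det]; rfl
  have hne : ∀ A : GL (Fin 2) F, r A.1.det ≠ 0 := fun A h => by
    have := hr A.1.det
    rw [h, mul_zero, map_eq_zero] at this
    exact Matrix.GeneralLinearGroup.det_ne_zero A this
  let L : GL (Fin 2) F → Matrix.SpecialLinearGroup (Fin 2) (KK p) := fun A =>
    ⟨(r A.1.det)⁻¹ • A.1.map f, by
      rw [Matrix.det_smul, hdet, Fintype.card_fin]
      field_simp [hne A]⟩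
  have hL : ∀ A B, L (A * B) = L A * L B ∨ L (A * B) = -(L A * L B) := fun A B => by
    have e : r (A * B).1.det * r (A * B).1.det = (r A.1.det * r B.1.det) * (r A.1.det * r B.1.det) := by
      rw [← hr, Units.val_mul, Matrix.det_mul, map_mul, hr, hr]; ring
    rcases mul_self_eq_mul_self_iff.1 e with h | h
    · left
      apply Subtype.ext
      show (r (A * B).1.det)⁻¹ • (A * B).1.map f = ((r A.1.det)⁻¹ • A.1.map f) * ((r B.1.det)⁻¹ • B.1.map f)
      rw [h, Units.val_mul, Matrix.map_mul, Matrix.smul_mul, Matrix.mul_smul, smul_smul, mul_inv]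
    · right
      apply Subtype.ext
      show (r (A * B).1.det)⁻¹ • (A * B).1.map f = -(((r A.1.det)⁻¹ • A.1.map f) * ((r B.1.det)⁻¹ • B.1.map f))
      rw [h, Units.val_mul, Matrix.map_mul, Matrix.smul_mul, Matrix.mul_smul, smul_smul, inv_neg, mul_inv,
        neg_smul]
  let ι : GL (Fin 2) F →* Matrix.ProjectiveSpecialLinearGroup (Fin 2) (KK p) :=
    MonoidHom.mk' (fun A => PSL2.mk (L A)) fun A B => by
      show PSL2.mk (L (A * B)) = PSL2.mk (L A) * PSL2.mk (L B)
      rcases hL A B with h | h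
      · rw [h, map_mul]
      · rw [h, mk_neg, map_mul]
  refine ⟨ι, fun A => ⟨fun h => ?_, fun ⟨a, ha⟩ => ?_⟩⟩
  · have hs : ∃ c : KK p, A.1.map f = c • (1 : Matrix (Fin 2) (Fin 2) (KK p)) := by
      rcases mk_eq_one h with e | e
      · refine ⟨r A.1.det, ?_⟩
        have e' : (r A.1.det)⁻¹ • A.1.map f = 1 := congrArg Subtype.val e
        rw [← e', smul_smul, mul_inv_cancel₀ (hne A), one_smul]
      · refine ⟨-r A.1.det, ?_⟩
        have e' : (r A.1.det)⁻¹ • A.1.map f = -1 := congrArg Subtype.val e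
        rw [neg_smul, ← smul_neg, ← e', smul_smul, mul_inv_cancel₀ (hne A), one_smul]
    obtain ⟨c, hc⟩ := hs
    have e00 : f (A.1 0 0) = c := by simpa using congrFun (congrFun hc 0) 0
    have e01 : A.1 0 1 = 0 := by simpa using congrFun (congrFun hc 0) 1
    have e10 : A.1 1 0 = 0 := by simpa using congrFun (congrFun hc 1) 0
    have e11 : f (A.1 1 1) = c := by simpa using congrFun (congrFun hc 1) 1
    refine ⟨A.1 0 0, ?_⟩
    ext i j
    fin_cases i <;> fin_cases j <;> simp [e01, e10]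
    exact f.injective (e11.trans e00.symm)
  · have hm : A.1.map f = f a • (1 : Matrix (Fin 2) (Fin 2) (KK p)) := by
      rw [ha]; ext i j; fin_cases i <;> fin_cases j <;> simp
    have hdd := hdet A
    rw [hm, Matrix.det_smul, Matrix.det_one, mul_one, Fintype.card_fin, sq] at hdd
    show PSL2.mk (L A) = 1
    rcases mul_self_eq_mul_self_iff.1 hdd with e | e
    · rw [show L A = 1 from Subtype.ext (by
        show (r A.1.det)⁻¹ • A.1.map f = 1
        rw [hm, e, smul_smul, inv_mul_cancel₀ (hne A), one_smul]), map_one]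
    · rw [show L A = -1 from Subtype.ext (by
        show (r A.1.det)⁻¹ • A.1.map f = -1
        rw [hm, e, smul_smul, mul_neg, inv_mul_cancel₀ (hne A), neg_one_smul]), mk_neg, map_one]

/-- The dichotomy. -/
theorem dichotomy (hF : Fintype.card F = p ^ 2) (hp2 : p ≠ 2)
    {ι : GL (Fin 2) F →* Matrix.ProjectiveSpecialLinearGroup (Fin 2) (KK p)}
    (hι : ∀ A : GL (Fin 2) F, ι A = 1 ↔ ∃ a : F, A.1 = a • (1 : Matrix (Fin 2) (Fin 2) F))
    (H : Subgroup (GL (Fin 2) F)) (hH : ∃ u ∈ ⁅H, H⁆, ∃ v ∈ ⁅H, H⁆, ι ⁅u, v⁆ ≠ 1) :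
    (∃ U V : Matrix.SpecialLinearGroup (Fin 2) F, U.1.trace = 2 ∧ V.1.trace = 2 ∧ U * V ≠ V * U ∧
      Matrix.SpecialLinearGroup.toGL U ∈ H ∧ Matrix.SpecialLinearGroup.toGL V ∈ H) ∨
      NiceThree (H.map ι) := by
  classical
  haveI := Fintype.ofFinite (KK p)
  set X := H.map ι with hX
  obtain ⟨u, hu, v, hv, huv⟩ := hH
  have hu' : ι u ∈ ⁅X, X⁆ := by rw [hX, ← Subgroup.map_commutator]; exact ⟨u, hu, rfl⟩
  have hv' : ι v ∈ ⁅X, X⁆ := by rw [hX, ← Subgroup.map_commutator]; exact ⟨v, hv, rfl⟩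
  rw [map_commutatorElement] at huv
  have hab : ¬ ∀ a ∈ ⁅X, X⁆, ∀ b ∈ ⁅X, X⁆, a * b = b * a := fun h =>
    huv (commutatorElement_eq_one_iff_commute.2 (h _ hu' _ hv'))
  rcases kind (psl (F := KK p) p) X with h | ⟨x, hx, hxH, h⟩ | ⟨x, hx, hxH, ⟨e⟩⟩ | ⟨⟨e⟩⟩ | ⟨⟨e⟩⟩ | ⟨⟨e⟩⟩ |
    ⟨w, hwH, hw, h⟩ | ⟨w, z, hwH, hw, hzH, hz, hwz, Q, hQ, h3, hh, hB, hmax⟩
  · refine absurd (fun a ha b hb => ?_) hab
    have ha1 : a = 1 := Subgroup.mem_bot.1 (h ▸ Subgroup.commutator_le_self X ha)
    rw [ha1, one_mul, mul_one]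
  · exact absurd (fun a ha b hb => (tor_comm hx (h (Subgroup.commutator_le_self X ha))
      (h (Subgroup.commutator_le_self X hb))).eq) hab
  · refine absurd (fun a ha b hb => ?_) hab
    have hmem : ∀ a ∈ ⁅X, X⁆, ∃ (ha : a ∈ X) (i : _), e ⟨a, ha⟩ = DihedralGroup.r i := by
      intro a ha
      have haX : a ∈ X := Subgroup.commutator_le_self X ha
      have : (⟨a, haX⟩ : X) ∈ commutator X := by
        rw [← Subgroup.map_subtype_commutator X] at ha
        obtain ⟨y, hy, rfl⟩ := ha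
        exact hy
      obtain ⟨i, hi⟩ := dihedral_derived (a := e ⟨a, haX⟩) (by
        have h1 : (commutator X).map e.toMonoidHom = commutator _ := by
          rw [commutator_def, Subgroup.map_commutator, ← MonoidHom.range_eq_map,
            MonoidHom.range_eq_top.2 e.surjective, ← commutator_def]
        rw [← h1]; exact ⟨_, this, rfl⟩)
      exact ⟨haX, i, hi⟩
    obtain ⟨ha', i, hi⟩ := hmem a ha
    obtain ⟨hb', j, hj⟩ := hmem b hb
    have : (⟨a, ha'⟩ : X) * ⟨b, hb'⟩ = ⟨b, hb'⟩ * ⟨a, ha'⟩ := e.injective (by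
      rw [map_mul, map_mul, hi, hj, DihedralGroup.r_mul_r, DihedralGroup.r_mul_r, add_comm])
    exact congrArg Subtype.val this
  · refine absurd (fun a ha b hb => ?_) hab
    have hmem : ∀ a ∈ ⁅X, X⁆, ∃ ha : a ∈ X, e ⟨a, ha⟩ ∈ commutator (alternatingGroup (Fin 4)) := by
      intro a ha
      rw [← Subgroup.map_subtype_commutator X] at ha
      obtain ⟨y, hy, rfl⟩ := ha
      refine ⟨y.2, ?_⟩
      have h1 : (commutator X).map e.toMonoidHom = commutator _ := by
        rw [commutator_def, Subgroup.map_commutator, ← MonoidHom.range_eq_map,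
          MonoidHom.range_eq_top.2 e.surjective, ← commutator_def]
      rw [← h1]
      exact ⟨y, hy, rfl⟩
    obtain ⟨ha', hia⟩ := hmem a ha
    obtain ⟨hb', hib⟩ := hmem b hb
    exact congrArg Subtype.val (e.injective (a₁ := (⟨a, ha'⟩ : X) * ⟨b, hb'⟩) (a₂ := ⟨b, hb'⟩ * ⟨a, ha'⟩)
      (by rw [map_mul, map_mul]; exact a4_derived hia hib))
  · exact Or.inr (nice_of_equiv e s4_nice)
  · exact Or.inr (nice_of_equiv e a5_nice)
  · refine absurd (fun a ha b hb => ?_) hab
    have hle : ⁅X, X⁆ ≤ cent w := by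
      rw [Subgroup.commutator_le]
      intro y hy z hz
      refine mem_cent.2 ?_
      rw [commutatorElement_def]
      exact (psl (F := KK p) p).borel_comm w y z hw ((mem_bor (psl (F := KK p) p) hw).1 (h hy)) ((mem_bor (psl (F := KK p) p) hw).1 (h hz))
    exact ((psl (F := KK p) p).u_cen w a b hw (mem_cent.1 (hle ha)) (mem_cent.1 (hle hb))).1.eq
  · left
    -- lift the two elements
    have lift : ∀ g ∈ X, orderOf g = p → ∃ (U : Matrix.SpecialLinearGroup (Fin 2) F) (k : ℕ),
        U.1.trace = 2 ∧ Matrix.SpecialLinearGroup.toGL U ∈ H ∧ ι (Matrix.SpecialLinearGroup.toGL U) = g ^ k ∧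
        Nat.Coprime p k := by
      rintro g ⟨U₀, hU₀, rfl⟩ hg
      obtain ⟨a, m, hm, hn⟩ := Nat.exists_eq_pow_mul_and_not_dvd (n := orderOf U₀)
        (orderOf_pos U₀).ne' p (Fact.out : p.Prime).one_lt.ne'
      have hU1 : (U₀ ^ m) ^ (p ^ a) = 1 := by rw [← pow_mul, mul_comm, ← hn, pow_orderOf_eq_one]
      set N := (U₀ ^ m).1 - 1 with hN
      haveI : CharP (Matrix (Fin 2) (Fin 2) F) p := Matrix.charP p
      have hnil : IsNilpotent N := ⟨p ^ a, by
        rw [hN, sub_pow_char_pow_of_commute _ _ (Commute.one_right _), one_pow, ← Units.val_pow_eq_pow_val, hU1,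
          Units.val_one, sub_self]⟩
      have htr : N.trace = 0 := IsNilpotent.eq_zero (Matrix.isNilpotent_trace_of_isNilpotent hnil)
      have hdet : N.det = 0 := IsNilpotent.eq_zero (by
        obtain ⟨n, hn'⟩ := hnil
        exact ⟨n + 1, by rw [← Matrix.det_pow, pow_succ, hn', zero_mul, Matrix.det_zero]⟩)
      have e2 : (U₀ ^ m).1.trace = 2 := by
        rw [hN, Matrix.trace_sub, Matrix.trace_one, Fintype.card_fin, sub_eq_zero] at htr
        rw [htr]; norm_num
      have e1 : (U₀ ^ m).1.det = 1 := by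
        rw [Matrix.trace_fin_two] at e2
        rw [hN, Matrix.det_fin_two] at hdet
        simp at hdet
        rw [Matrix.det_fin_two]
        linear_combination hdet + e2
      refine ⟨⟨_, e1⟩, m, e2, ?_, ?_, (Nat.Prime.coprime_iff_not_dvd Fact.out).2 hm⟩
      · convert pow_mem hU₀ m using 1
        exact Units.ext rfl
      · rw [← map_pow]
        exact congrArg ι (Units.ext rfl)
    obtain ⟨U, k, hUt, hUH, hUι, hk⟩ := lift w hwH hw
    obtain ⟨V, l, hVt, hVH, hVι, hl⟩ := lift z hzH hz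
    have hne : U * V ≠ V * U := by
      intro e
      have h1 : Commute (w ^ k) (z ^ l) := by
        rw [← hUι, ← hVι]
        exact (congrArg (fun A => ι (Matrix.SpecialLinearGroup.toGL A)) e : _) |> fun h => by
          simpa [Commute, SemiconjBy] using h
      have hpow : ∀ (g : Matrix.ProjectiveSpecialLinearGroup (Fin 2) (KK p)) (k : ℕ), orderOf g = p →
          Nat.Coprime p k → g ∈ Subgroup.zpowers (g ^ k) := fun g k hg hk => by
        obtain ⟨n, hn⟩ := exists_pow_eq_self_of_coprime (x := g) (n := k) (by rw [hg]; exact hk.symm)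
        exact ⟨n, by simpa using hn⟩
      obtain ⟨i, hi⟩ := hpow w k hw hk
      obtain ⟨j, hj⟩ := hpow z l hz hl
      refine hwz ?_
      rw [← hi, ← hj]
      exact (h1.symm.zpow_left j).zpow_right i
    exact ⟨U, V, hUt, hVt, hne, hUH, hVH⟩

end CfsgLib.MaxSub.SU3Max.Hess
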