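/-
The standard Hessian generators are unitary.
-/
import Cfsg.Agent.Lib.MaxSub.SU3Max.Basic
import Cfsg.Agent.Lib.MaxSub.SLThree.Hess.Grp

set_option autoImplicit false
set_option maxHeartbeats 400000
set_option linter.unusedSectionVars false

namespace CfsgLib.MaxSub.SU3Max.Hess

open Matrix Cfsg CfsgLib.UnitaryTransvection
open CfsgLib.MaxSub.SLThree.Hess (Xm Ym Fm Gm Root)

variable {F : Type*} [Field F] [Fintype F] {q : ℕ} {hF : Fintype.card F = q ^ 2}

local notation "V" => Fin 3 → F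
local notation "h" => Cfsg.hermForm 3 F q
local notation "σ" => frob hF
local notation "Mn" => Matrix (Fin 3) (Fin 3) F

include hF in
theorem iso_of_gram {M : Mn} (hM : M.transpose * M.map σ = 1) (u v : V) :
    h (M *ᵥ u) (M *ᵥ v) = h u v := by
  have key : ∀ x y : V, h x y = x ⬝ᵥ (fun i => σ (y i)) := fun x y =>
    Finset.sum_congr rfl fun i _ => by simp only [frob_apply]
  have hm : (fun i => σ ((M *ᵥ v) i)) = M.map σ *ᵥ fun i => σ (v i) := funext fun i =>
    RingHom.map_mulVec σ M v i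
  rw [key, key, hm, dotProduct_comm, Matrix.dotProduct_mulVec, dotProduct_comm, ← Matrix.mulVec_transpose,
    Matrix.mulVec_mulVec, hM, Matrix.one_mulVec]

variable (hF)

theorem frob_root {ω : F} (hr : Root ω) (hq : q % 3 = 2) : σ ω = ω * ω := by
  rw [frob_apply, ← Nat.div_add_mod q 3, hq, pow_add, pow_mul, hr.cube, one_pow, one_mul, pow_two]

theorem frob_scale {ω : F} (hr : Root ω) (hq : q % 3 = 2) :
    σ (ω - ω * ω)⁻¹ = -(ω - ω * ω)⁻¹ ∧ (ω - ω * ω)⁻¹ * (ω - ω * ω)⁻¹ * (-3) = 1 := by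
  refine ⟨?_, ?_⟩
  · rw [map_inv₀, map_sub, map_mul, frob_root hF hr hq, ← inv_neg]
    congr 1
    linear_combination -ω * hr.cube
  · have h0 := inv_mul_cancel₀ hr.sub_ne
    set d := (ω - ω * ω)⁻¹
    rw [← hr.sq_sub]
    linear_combination (d * (ω - ω * ω) + 1) * h0

include hF in
theorem iso_Fm {ω : F} (hr : Root ω) (hq : q % 3 = 2) (u v : V) : h (Fm ω *ᵥ u) (Fm ω *ᵥ v) = h u v := by
  obtain ⟨hd, hd3⟩ := frob_scale hF hr hq
  have hw := frob_root hF hr hq
  have he := hr.eq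
  refine iso_of_gram (hF := hF) ?_ u v
  rw [Fm]
  ext i j
  fin_cases i <;> fin_cases j <;>
    (simp only [Matrix.mul_apply, Fin.sum_univ_three, Matrix.map_apply, Matrix.transpose_apply,
      Matrix.smul_apply, smul_eq_mul, map_mul, hd]; simp [hw, Matrix.one_apply]) <;> grind

include hF in
theorem iso_Gm {ω : F} (hr : Root ω) (hq : q % 3 = 2) (u v : V) : h (Gm ω *ᵥ u) (Gm ω *ᵥ v) = h u v := by
  obtain ⟨hd, hd3⟩ := frob_scale hF hr hq
  have hw := frob_root hF hr hq
  have he := hr.eq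
  refine iso_of_gram (hF := hF) ?_ u v
  rw [Gm]
  ext i j
  fin_cases i <;> fin_cases j <;>
    (simp only [Matrix.mul_apply, Fin.sum_univ_three, Matrix.map_apply, Matrix.transpose_apply,
      Matrix.smul_apply, smul_eq_mul, map_mul, hd]; simp [hw, Matrix.one_apply]) <;> grind

end CfsgLib.MaxSub.SU3Max.Hess
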