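/-
Quasi-dihedral and wreathed Sylow subgroups in the Hessian situation over a field of square order.
-/
import Cfsg.Agent.Lib.MaxSub.SLThree.Hess.QD
import Cfsg.Agent.Lib.MaxSub.SU3Max.Hess.Cent

set_option autoImplicit false
set_option maxHeartbeats 800000
set_option linter.unusedSectionVars false
set_option linter.style.haveILetI false

namespace CfsgLib.MaxSub.SU3Max.Hess

open CfsgLib.MaxSub.SLThree.Hess hiding KK exists_hom exists_proj dichotomy axis key no_centralised no_config no_qd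
open Matrix Cfsg
open scoped commutatorElement

universe u

variable {F : Type u} [Field F] [Fintype F] {ω : F}

local notation "P3" => Matrix.ProjectiveSpecialLinearGroup (Fin 3) F

variable {h : Root ω}
variable {L : Subgroup (Matrix.ProjectiveSpecialLinearGroup (Fin 3) F)}

/-- The quasi-dihedral and wreathed cases do not occur. -/
theorem no_qd {p : ℕ} [Fact p.Prime] [CharP F p] (hF : Fintype.card F = p ^ 2) (hp : 5 < p) (hs : Situation h L)
    (noTv : ∀ (P : GL (Fin 3) F), IsFrame P → ∀ U V : Matrix.SpecialLinearGroup (Fin 2) F,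
      U.1.trace = 2 → V.1.trace = 2 → U * V ≠ V * U → Φ P (Matrix.SpecialLinearGroup.toGL U) ∈ L →
      Φ P (Matrix.SpecialLinearGroup.toGL V) ∈ L → False)
    (S : Sylow 2 L) (hS : IsQuasiDihedral (S : Subgroup L) ∨ IsWreathed (S : Subgroup L)) : False := by
  classical
  haveI := hs.simple
  haveI : Fact (Nat.Prime 2) := ⟨Nat.prime_two⟩
  have hidx := hs.no_index_two
  set t : L := ⟨pt, hs.mem_t⟩ with ht
  have ht2 : orderOf t = 2 := orderOf_eq_prime (Subtype.ext (by simp [ht, pow_two, pt_sq]))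
    (fun e => pt_ne_one hs.two (congrArg Subtype.val e))
  -- every involution is central in a Sylow subgroup
  have hcen : ∀ x : L, orderOf x = 2 → ∃ T : Sylow 2 L, x ∈ (T : Subgroup L) ∧ ∀ y ∈ (T : Subgroup L), x * y = y * x := by
    intro x hx
    set C := Subgroup.centralizer ({x} : Set L)
    obtain ⟨R, hR, -, -⟩ : ∃ R : Sylow 2 C, Nat.card R = Nat.card S ∧ _ ∧ _ :=
      Cfsg.Agent.S1213.result S hS hidx x hx
    have hxC : x ∈ C := Subgroup.mem_centralizer_singleton_iff.2 rfl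
    have hcentral : ∀ g : C, g * ⟨x, hxC⟩ = ⟨x, hxC⟩ * g := fun g =>
      Subtype.ext (Subgroup.mem_centralizer_singleton_iff.1 g.2)
    haveI : (Subgroup.zpowers (⟨x, hxC⟩ : C)).Normal := ⟨fun y hy g => by
      obtain ⟨i, rfl⟩ := Subgroup.mem_zpowers_iff.1 hy
      rw [((show Commute g ⟨x, hxC⟩ from hcentral g).zpow_right i).eq, mul_inv_cancel_right]
      exact ⟨i, rfl⟩⟩
    have hzp : IsPGroup 2 (Subgroup.zpowers (⟨x, hxC⟩ : C)) := IsPGroup.of_card (n := 1) (by
      rw [Nat.card_zpowers, ← Subgroup.orderOf_coe, pow_one]; exact hx)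
    have hxR : (⟨x, hxC⟩ : C) ∈ (R : Subgroup C) := by
      have := R.3 (IsPGroup.to_sup_of_normal_right R.2 hzp) le_sup_left
      rw [← this]
      exact Subgroup.mem_sup_right (Subgroup.mem_zpowers _)
    refine ⟨Sylow.ofCard ((R : Subgroup C).map C.subtype) (by
      rw [Subgroup.card_map_of_injective C.subtype_injective]
      exact hR.trans S.card_eq_multiplicity), ?_, ?_⟩
    · rw [Sylow.coe_ofCard]; exact ⟨_, hxR, rfl⟩
    · rw [Sylow.coe_ofCard]
      rintro _ ⟨y, -, rfl⟩
      exact (Subgroup.mem_centralizer_singleton_iff.1 y.2).symm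
  have huniq : ∀ (T : Sylow 2 L) (z w : L), orderOf z = 2 → orderOf w = 2 → z ∈ (T : Subgroup L) →
      w ∈ (T : Subgroup L) → (∀ y ∈ (T : Subgroup L), z * y = y * z) → (∀ y ∈ (T : Subgroup L), w * y = y * w) →
      z = w := by
    intro T z w hz hw hzT hwT hzc hwc
    by_contra hne
    refine qd_noncomm hS fun a b => ?_
    let e := (Sylow.equiv S T)
    refine e.injective (Subtype.ext (Subtype.ext ?_))
    rw [map_mul, map_mul]
    have hsq : ∀ y : L, orderOf y = 2 → (y : P3) * y = 1 ∧ (y : P3) ≠ 1 := fun y hy => by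
      refine ⟨?_, fun e => ?_⟩
      · have := pow_orderOf_eq_one y
        rw [hy, pow_two] at this
        exact congrArg Subtype.val this
      · have : y = 1 := Subtype.ext e
        rw [this, orderOf_one] at hy
        norm_num at hy
    exact cent_four hs.two (hsq z hz).1 (hsq z hz).2 (hsq w hw).1 (hsq w hw).2
      (congrArg Subtype.val (hzc w hwT)) (fun e => hne (Subtype.ext e))
      (congrArg Subtype.val (hzc _ (e a).2)) (congrArg Subtype.val (hwc _ (e a).2))
      (congrArg Subtype.val (hzc _ (e b).2)) (congrArg Subtype.val (hwc _ (e b).2))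
  have hone : ∀ x : L, orderOf x = 2 → ∃ a : L, a * t * a⁻¹ = x := by
    intro x hx
    obtain ⟨T, hxT, hxc⟩ := hcen x hx
    obtain ⟨T0, htT, htc⟩ := hcen t ht2
    obtain ⟨a, ha⟩ := MulAction.exists_smul_eq L T0 T
    refine ⟨a, huniq T _ x ?_ hx ?_ hxT ?_ hxc⟩
    · exact (MulEquiv.orderOf_eq (MulAut.conj a) t).trans ht2
    · rw [← ha]; exact ⟨t, htT, rfl⟩
    · rw [← ha]
      rintro _ ⟨y, hy, rfl⟩
      show a * t * a⁻¹ * (a * y * a⁻¹) = a * y * a⁻¹ * (a * t * a⁻¹)
      rw [_root_.conj_mul, htc y hy, ← _root_.conj_mul]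
  obtain ⟨a, haL, b, hbL, ha, ha1, hb, hb1, hab, hc⟩ := hs.isMin.exists_four hs.noncomm hs.even
  set C := Subgroup.centralizer ({t} : Set L) with hC
  obtain ⟨F0, hF0, hF0', hodd, ⟨e⟩⟩ : ∃ (F0 : Type) (_ : Field F0) (_ : Fintype F0), Odd (Fintype.card F0) ∧
      Nonempty (↥(commutator (↥C ⧸ oddCore ↥C)) ≃* Matrix.SpecialLinearGroup (Fin 2) F0) :=
    CfsgLib.GWConseq.QDCentre.centralizer_sl CfsgLib.GW.gwThm.{u} S hS hidx t ht2
  letI := hF0
  letI := hF0'
  let π := QuotientGroup.mk' (oddCore ↥C)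
  have hlift : ∀ s : Matrix.SpecialLinearGroup (Fin 2) F0, ∃ c ∈ commutator C,
      π c = ((e.symm s : commutator (↥C ⧸ oddCore ↥C)) : ↥C ⧸ oddCore ↥C) := fun s => by
    have h1 : ((e.symm s : commutator (↥C ⧸ oddCore ↥C)) : ↥C ⧸ oddCore ↥C) ∈ (commutator C).map π := by
      rw [commutator_def, Subgroup.map_commutator, ← MonoidHom.range_eq_map,
        MonoidHom.range_eq_top.2 (QuotientGroup.mk'_surjective _), ← commutator_def]
      exact (e.symm s).2
    obtain ⟨c, hc, hce⟩ := h1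
    exact ⟨c, hc, hce⟩
  let U : Matrix.SpecialLinearGroup (Fin 2) F0 := ⟨!![1, 1; 0, 1], by simp [Matrix.det_fin_two]⟩
  let V : Matrix.SpecialLinearGroup (Fin 2) F0 := ⟨!![1, 0; 1, 1], by simp [Matrix.det_fin_two]⟩
  have hUV : ⁅U, V⁆ * U ≠ U * ⁅U, V⁆ := by
    intro h1
    have h2 := congrFun (congrFun (congrArg Subtype.val h1) 0) 0
    simp only [commutatorElement_def, Matrix.SpecialLinearGroup.coe_mul, Matrix.SpecialLinearGroup.coe_inv] at h2
    simp [U, V, Matrix.adjugate_fin_two, Matrix.mul_apply, Fin.sum_univ_two] at h2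
  obtain ⟨cu, hcu, hcu'⟩ := hlift U
  obtain ⟨cv, hcv, hcv'⟩ := hlift V
  let ι0 : C →* P3 := L.subtype.comp C.subtype
  have hι0 : ∀ c : C, ι0 c ∈ L ⊓ Subgroup.centralizer {(pt : P3)} := fun c => ⟨(c : L).2,
    Subgroup.mem_centralizer_singleton_iff.2 (congrArg Subtype.val (Subgroup.mem_centralizer_singleton_iff.1 c.2))⟩
  have hι0i : Function.Injective ι0 := L.subtype_injective.comp C.subtype_injective
  have hmem : ∀ c ∈ commutator C, ι0 c ∈
      ⁅L ⊓ Subgroup.centralizer {(pt : P3)}, L ⊓ Subgroup.centralizer {(pt : P3)}⁆ := fun c hc => by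
    have h1 : ι0 c ∈ (commutator C).map ι0 := ⟨c, hc, rfl⟩
    rw [commutator_def, Subgroup.map_commutator] at h1
    exact Subgroup.commutator_mono (by rintro _ ⟨y, -, rfl⟩; exact hι0 y)
      (by rintro _ ⟨y, -, rfl⟩; exact hι0 y) h1
  have h3 : 3 ∣ Nat.card C := by
    have h1 : 3 ∣ Nat.card (Matrix.SpecialLinearGroup (Fin 2) F0) := by
      let W : Matrix.SpecialLinearGroup (Fin 2) F0 := ⟨!![0, -1; 1, -1], by simp [Matrix.det_fin_two]⟩
      haveI : Fact (Nat.Prime 3) := ⟨by norm_num⟩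
      have hW : orderOf W = 3 := orderOf_eq_prime (Subtype.ext (by
          ext i j
          rw [Matrix.SpecialLinearGroup.coe_pow]
          fin_cases i <;> fin_cases j <;> simp [W, pow_succ, Matrix.mul_apply, Fin.sum_univ_two]))
        (fun h1 => by
          have := congrFun (congrFun (congrArg Subtype.val h1) 1) 0
          simp [W] at this)
      rw [← hW]; exact orderOf_dvd_natCard W
    rw [← Nat.card_congr e.toEquiv] at h1
    exact (h1.trans (Subgroup.card_subgroup_dvd_card _)).trans (Subgroup.card_quotient_dvd_card _)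
  haveI : Fact (Nat.Prime 3) := ⟨by norm_num⟩
  obtain ⟨g, hg⟩ := exists_prime_orderOf_dvd_card' 3 h3
  refine (fun hc => no_config hF hp (L := L) (h := h) hc noTv)
    ⟨hs.mem_E, hs.mem_t, hs.ne_top, hs.stable, fun d hd hd2 hd1 => ?_, ?_, ?_, ?_⟩
  · obtain ⟨a, ha⟩ := hone ⟨d, hd⟩ (orderOf_eq_prime (Subtype.ext (by simp [pow_two, hd2]))
      (fun e => hd1 (congrArg Subtype.val e)))
    exact ⟨a, a.2, congrArg Subtype.val ha⟩
  · obtain ⟨c, hc'⟩ := hone ⟨a, haL⟩ (orderOf_eq_prime (Subtype.ext (by simp [pow_two, ha]))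
      (fun e => ha1 (congrArg Subtype.val e)))
    have hca : (c : P3) * pt * (c : P3)⁻¹ = a := congrArg Subtype.val hc'
    refine ⟨(c : P3)⁻¹ * b * (c : P3), mul_mem (mul_mem (inv_mem c.2) hbL) c.2, ?_, ?_, ?_, ?_⟩
    · rw [show (pt : P3) = (c : P3)⁻¹ * a * (c : P3) by rw [← hca]; group,
        show (c : P3)⁻¹ * b * (c : P3) * ((c : P3)⁻¹ * a * (c : P3)) = (c : P3)⁻¹ * (b * a) * (c : P3) by group,
        ← hc]
      group
    · rw [show (c : P3)⁻¹ * b * (c : P3) * ((c : P3)⁻¹ * b * (c : P3)) = (c : P3)⁻¹ * (b * b) * (c : P3) by group,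
        hb]
      group
    · intro e0
      exact hb1 (by calc b = (c : P3) * ((c : P3)⁻¹ * b * (c : P3)) * (c : P3)⁻¹ := by group
          _ = 1 := by rw [e0]; group)
    · intro e0
      exact hab (by rw [← hca, ← e0]; group)
  · refine ⟨_, hmem _ hcu, _, hmem _ hcv, _, hι0 cu, fun e1 => hUV ?_⟩
    rw [← map_commutatorElement, ← map_mul, ← map_mul] at e1
    have e2 := congrArg π (hι0i e1)
    rw [map_mul, map_mul, map_commutatorElement, hcu', hcv'] at e2
    refine e.symm.injective (Subtype.ext ?_)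
    rw [map_mul, map_mul, map_commutatorElement]
    exact e2
  · exact ⟨_, (hι0 g).1, (Subgroup.mem_centralizer_singleton_iff.1 (hι0 g).2), fun e1 => by
      have : g = 1 := hι0i (e1.trans (map_one ι0).symm)
      rw [this, orderOf_one] at hg
      norm_num at hg, by rw [← map_pow, show g ^ 3 = 1 from orderOf_dvd_iff_pow_eq_one.1 hg.dvd, map_one]⟩

end CfsgLib.MaxSub.SU3Max.Hess
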