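/-
A proper subgroup containing the Hessian configuration and no two skew transvections normalises the group of
order nine.
-/
import Cfsg.Agent.Lib.MaxSub.SLThree.Hess.Norm
import Cfsg.Agent.Lib.MaxSub.SU3Max.Hess.QD

set_option autoImplicit false
set_option maxHeartbeats 800000
set_option linter.unusedSectionVars false
set_option linter.style.haveILetI false

namespace CfsgLib.MaxSub.SU3Max.Hess

open CfsgLib.MaxSub.SLThree.Hess hiding KK exists_hom exists_proj dichotomy axis key no_centralised no_config no_qd normalises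
open Matrix Cfsg

universe u

variable {F : Type u} [Field F] [Fintype F] {ω : F} {p : ℕ}

local notation "P3" => Matrix.ProjectiveSpecialLinearGroup (Fin 3) F

variable {h : Root ω}

/-- The core of the maximality of the Hessian groups. -/
theorem normalises [Fact p.Prime] [CharP F p] (hF : Fintype.card F = p ^ 2) (hp : 5 < p) {G : Subgroup P3}
    (hE : E h ≤ G) (hf : pf h ∈ G) (hg : pg h ∈ G) (hG : G ≠ ⊤)
    (noTv : ∀ (P : GL (Fin 3) F), IsFrame P → ∀ U V : Matrix.SpecialLinearGroup (Fin 2) F,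
      U.1.trace = 2 → V.1.trace = 2 → U * V ≠ V * U → Φ P (Matrix.SpecialLinearGroup.toGL U) ∈ G →
      Φ P (Matrix.SpecialLinearGroup.toGL V) ∈ G → False) : Inv G (E h) := by
  classical
  have h2 : (2 : F) ≠ 0 := fun e => by
    have := (CharP.cast_eq_zero_iff F p 2).1 (by exact_mod_cast e)
    have := Nat.le_of_dvd two_pos this
    omega
  have hQG : Subgroup.closure ({pf h, pg h} : Set P3) ≤ G := (Subgroup.closure_le _).2 (by
    rintro v (rfl | rfl) <;> assumption)
  have hG1 : G ≠ ⊥ := fun e => px_ne_one h (Subgroup.mem_bot.1 (e ▸ hE (px_mem h)))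
  obtain ⟨L, hLG, hL⟩ := exists_min (A := G) (N := G)
    (fun a ha x hx => mul_mem (mul_mem ha hx) (inv_mem ha)) hG1
  haveI : Nontrivial L := (Subgroup.nontrivial_iff_ne_bot L).2 hL.ne_bot
  rcases hL.abelian_or with ⟨hab, r, hr, hexp⟩ | ⟨hnc, hev⟩
  · suffices hEL : E h ≤ L by
      have : L = E h := le_antisymm (fun a ha => mem_E_of_commute fun e he => hab a ha e (hEL he)) hEL
      exact this ▸ hL.inv
    by_cases hr2 : r = 2
    · -- impossible, but `pt` would lie in `L`
      subst hr2
      refine E_le_of_pt hL.inv hE (pt_mem_of_even h2 hf hg hL.inv hLG ?_)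
      haveI : Fact (Nat.Prime 2) := ⟨Nat.prime_two⟩
      obtain ⟨k, hk⟩ := (show IsPGroup 2 L from fun x => ⟨1, Subtype.ext (by simpa using hexp x.1 x.2)⟩).exists_card_eq
      rw [hk]
      refine (Nat.even_pow).2 ⟨even_two, fun h0 => ?_⟩
      rw [h0, pow_zero] at hk
      exact (Finite.one_lt_card (α := L)).ne' hk
    by_cases hr3 : r = 3
    · subst hr3
      haveI : Fact (Nat.Prime 3) := ⟨Nat.prime_three⟩
      haveI : (L.subgroupOf G).Normal := ⟨fun x hx g => hL.inv g g.2 _ hx⟩
      have hEp : IsPGroup 3 ((E h).subgroupOf G) := fun ⟨⟨a, _⟩, ha⟩ => ⟨1, by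
        apply Subtype.ext; apply Subtype.ext
        simpa using E_cube h (Subgroup.mem_subgroupOf.1 ha)⟩
      obtain ⟨T, hT⟩ := hEp.exists_le_sylow
      have hLp : IsPGroup 3 (L.subgroupOf G) := fun ⟨⟨a, _⟩, ha⟩ => ⟨1, by
        apply Subtype.ext; apply Subtype.ext
        simpa using hexp a (Subgroup.mem_subgroupOf.1 ha)⟩
      have hLT : L.subgroupOf G ≤ (T : Subgroup G) := by
        have := T.3 (IsPGroup.to_sup_of_normal_right T.2 hLp) le_sup_left
        rw [← this]
        exact le_sup_right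
      obtain ⟨⟨x, hxL⟩, hx1'⟩ := L.ne_bot_iff_exists_ne_one.1 hL.ne_bot
      have hx1 : x ≠ 1 := fun e => hx1' (Subtype.ext e)
      obtain ⟨z, hzL, hz1, -, hzc⟩ := exists_central (N := L.subgroupOf G) T
        ⟨⟨x, hLG hxL⟩, hxL, hLT hxL, fun e => hx1 (congrArg Subtype.val e)⟩
      have hzE : (z : P3) ∈ E h := mem_E_of_commute fun e he =>
        (congrArg Subtype.val (hzc ⟨e, hE he⟩ (hT he))).symm
      obtain ⟨w, hw, hcase⟩ := exists_conj h hzE (fun e => hz1 (Subtype.ext e))
      have hback : ∀ y : P3, y = w * px h * w⁻¹ → y ∈ L → px h ∈ L := fun y hy hyL => by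
        have := hL.inv w⁻¹ (inv_mem (hQG hw)) y hyL
        rwa [hy, inv_inv, show w⁻¹ * (w * px h * w⁻¹) * w = px h by group] at this
      have hxL' : px h ∈ L := by
        rcases hcase with e | e
        · exact hback _ e hzL
        · exact hback _ e (inv_mem hzL)
      have hyy : (py * py : P3) ∈ L := by rw [← f_x h]; exact hL.inv _ hf _ hxL'
      have hyL : (py : P3) ∈ L := by
        have : (py : P3) = py * py * (py * py) := by
          calc (py : P3) = py * (py * (py * py)) := by rw [py_cube, mul_one]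
            _ = py * py * (py * py) := by group
        rw [this]; exact mul_mem hyy hyy
      intro e he
      obtain ⟨i, j, rfl⟩ := (mem_E h).1 he
      exact mul_mem (pow_mem hxL' _) (pow_mem hyL _)
    -- the coprime case
    exfalso
    haveI : IsMulCommutative (E h) := ⟨⟨fun a b => Subtype.ext (E_comm h a.2 b.2)⟩⟩
    have hncyc : ¬ IsCyclic (E h) := fun hc => by
      have h1 : Monoid.exponent (E h) = 9 := (IsCyclic.exponent_eq_card (α := E h)).trans (E_card h)
      have h3 : Monoid.exponent (E h) ∣ 3 := Monoid.exponent_dvd_of_forall_pow_eq_one fun g =>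
        Subtype.ext (by simpa using E_cube h g.2)
      rw [h1] at h3
      norm_num at h3
    have hnorm : E h ≤ Subgroup.normalizer (L : Set P3) := by
      intro e he
      rw [Subgroup.mem_normalizer_iff]
      refine fun a => ⟨hL.inv e (hE he) a, fun ha => ?_⟩
      have := hL.inv e⁻¹ (inv_mem (hE he)) _ ha
      rwa [inv_inv, show e⁻¹ * (e * a * e⁻¹) * e = a by group] at this
    haveI : Fact r.Prime := ⟨hr⟩
    obtain ⟨k, hk⟩ := (show IsPGroup r L from fun x => ⟨1, Subtype.ext (by simpa using hexp x.1 x.2)⟩).exists_card_eq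
    have hcop : (Nat.card (E h)).Coprime (Nat.card L) := by
      rw [E_card, hk, show 9 = 3 ^ 2 by norm_num]
      exact Nat.Coprime.pow _ _ ((Nat.coprime_primes Nat.prime_three hr).2 fun e => hr3 e.symm)
    have hgen := CfsgLib.coprime_generated_by_centralizers hncyc hnorm hcop
    obtain ⟨e, he, he1, a, haL, hae, ha1⟩ : ∃ e ∈ E h, e ≠ 1 ∧ ∃ a ∈ L, a * e = e * a ∧ a ≠ 1 := by
      by_contra hno
      push_neg at hno
      refine hL.ne_bot (eq_bot_iff.2 ?_)
      rw [← hgen]
      refine iSup₂_le fun e he a ha => Subgroup.mem_bot.2 ?_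
      exact hno e he.1 he.2 a ha.1 (Subgroup.mem_centralizer_singleton_iff.1 ha.2)
    obtain ⟨w, hw, hcase⟩ := exists_conj h he he1
    have hconj : ∀ y : P3, y = w * px h * w⁻¹ → a * y = y * a → (w⁻¹ * a * w) * px h = px h * (w⁻¹ * a * w) :=
      fun y hy hay => by
        have h1 : px h = w⁻¹ * y * w := by rw [hy]; group
        rw [h1, show w⁻¹ * a * w * (w⁻¹ * y * w) = w⁻¹ * (a * y) * w by group, hay]
        group
    have hax : (w⁻¹ * a * w) * px h = px h * (w⁻¹ * a * w) := by
      rcases hcase with e' | e'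
      · exact hconj _ e' hae
      · exact hconj _ e' ((show Commute a e from hae).inv_right).eq
    have haL' : w⁻¹ * a * w ∈ L := by
      have := hL.inv w⁻¹ (inv_mem (hQG hw)) a haL
      rwa [inv_inv] at this
    refine ha1 ?_
    have h1 := coprime_centX h (r := r) (fun h0 => hr3
      ((Nat.prime_dvd_prime_iff_eq Nat.prime_three hr).1 (Nat.dvd_of_mod_eq_zero h0)).symm) (hexp _ haL') hax
      (hab _ haL' _ (hL.inv _ hf _ haL'))
    calc a = w * (w⁻¹ * a * w) * w⁻¹ := by group
      _ = 1 := by rw [h1]; group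
  · exfalso
    have hrk : ∀ B : Subgroup P3, (∀ a ∈ B, ∀ b ∈ B, a * b = b * a) → (∀ a ∈ B, a * a = 1) → Nat.card B ≤ 4 :=
      fun B hc he => rank_two h2 hc he
    have hpt := pt_mem_of_even h2 hf hg hL.inv hLG hev
    haveI hsimple := hL.simple hLG hnc hrk
    have hs : Situation h L := ⟨hsimple, hnc, E_le_of_pt hL.inv hE hpt, hpt,
      fun e => hG (top_le_iff.1 (e.symm.le.trans hLG)), fun w hw a ha => hL.inv w (hQG hw) a ha, h2⟩
    haveI : Fact (Nat.Prime 2) := ⟨Nat.prime_two⟩
    haveI := Fintype.ofFinite (GaloisField 2 4)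
    have h16 : Fintype.card (GaloisField 2 4) = 16 := by
      rw [← Nat.card_eq_fintype_card, GaloisField.card 2 4 (by norm_num)]
      norm_num
    obtain ⟨S⟩ := (inferInstance : Nonempty (Sylow 2 L))
    obtain ⟨P⟩ := (inferInstance : Nonempty (Sylow 2 (Cfsg.PSU 3 (GaloisField 2 4) 4)))
    rcases Cfsg.Agent.S0516.result hnc hs.rank S h16 P with ⟨n, hn, ⟨e⟩⟩ | hq | hw | ⟨⟨e⟩⟩
    · exact no_dihedral hp hs (fun a ha => mem_E_of_commute ha) S n hn e
    · exact no_qd hF hp hs (fun P hP U V hU hV hne h1 h2 => noTv P hP U V hU hV hne (hLG h1) (hLG h2)) S (Or.inl hq)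
    · exact no_qd hF hp hs (fun P hP U V hU hV hne h1 h2 => noTv P hP U V hU hV hne (hLG h1) (hLG h2)) S (Or.inr hw)
    · exact no_unitary h16 hs S P e

end CfsgLib.MaxSub.SU3Max.Hess
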