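/-
Two non-commuting unipotents in an involution centraliser give `SU_3(p)`.
-/
import Cfsg.Agent.Lib.MaxSub.SU3Max.Basic
import Cfsg.Agent.Lib.MaxSub.SLThree.Hess.Frame

set_option autoImplicit false
set_option maxHeartbeats 400000
set_option linter.unusedSectionVars false

namespace CfsgLib.MaxSub.SU3Max.Hess

open Matrix Cfsg Cfsg.Geo CfsgLib.UnitaryTransvection
open CfsgLib.MaxSub.SLThree.Hess (Xm Tm Root embSL IsFrame)
open CfsgLib.PSLThree (emb dvec)

variable {F : Type*} [Field F] [Fintype F] {q : ℕ} {hF : Fintype.card F = q ^ 2}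

local notation "V" => Fin 3 → F
local notation "h" => Cfsg.hermForm 3 F q
local notation "σ" => frob hF
local notation "Mn" => Matrix (Fin 3) (Fin 3) F
local notation "GG" => Cfsg.GU 3 F q ⊓ specialLinear (Fin 3) F

include hF in
/-- A unipotent isometry moving along one line is an isotropic transvection. -/
theorem tv_of_rankone {X : Mn} (hX : ∀ u v, h (X *ᵥ u) (X *ᵥ v) = h u v) {a ψ : V} (ha : a ≠ 0)
    (hψ : ψ ≠ 0) (h0 : ψ ⬝ᵥ a = 0) (hXv : ∀ v, X *ᵥ v = v + (ψ ⬝ᵥ v) • a) :
    h a a = 0 ∧ ∃ k : F, k ≠ 0 ∧ k + σ k = 0 ∧ X = Cfsg.unitaryTransvection 3 q a k := by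
  have rel : ∀ v w, (ψ ⬝ᵥ v) * h a w + σ (ψ ⬝ᵥ w) * h v a + (ψ ⬝ᵥ v) * σ (ψ ⬝ᵥ w) * h a a = 0 := by
    intro v w
    have e := hX v w
    rw [hXv, hXv] at e
    simp only [h_add_left, h_add_right hF, h_smul_left, h_smul_right hF] at e
    linear_combination e
  obtain ⟨i, hi⟩ : ∃ i, ψ i ≠ 0 := by
    by_contra hcon
    push Not at hcon
    exact hψ (funext hcon)
  set v₁ : V := Pi.single i (ψ i)⁻¹ with hv₁
  have hv1 : ψ ⬝ᵥ v₁ = 1 := by rw [hv₁, dotProduct_single, mul_inv_cancel₀ hi]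
  have haa : h a a = 0 := by
    simpa [h0, hv1] using rel a v₁
  have r1 : ∀ w, h a w + σ (ψ ⬝ᵥ w) * h v₁ a = 0 := fun w => by
    simpa [haa, hv1] using rel v₁ w
  have ht : h v₁ a ≠ 0 := fun e => ha (h_nondeg hF fun w => by simpa [e] using r1 w)
  have hs : σ (h v₁ a) ≠ 0 := (map_ne_zero _).2 ht
  have hψv : ∀ w, ψ ⬝ᵥ w = -(σ (h v₁ a))⁻¹ * h w a := fun w => by
    have e := congrArg σ (r1 w)
    rw [map_add, map_mul, frob_frob hF, map_zero, h_swap hF a w] at e
    field_simp
    linear_combination e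
  refine ⟨haa, -(σ (h v₁ a))⁻¹, neg_ne_zero.2 (inv_ne_zero hs), ?_, ?_⟩
  · have e := r1 v₁
    rw [hv1, map_one, one_mul, ← h_swap hF v₁ a] at e
    rw [map_neg, map_inv₀, frob_frob hF]
    field_simp
    linear_combination -e
  · refine Matrix.ext_of_mulVec_single fun j => ?_
    rw [tmat_mulVec, hXv, hψv]

include hF in
/-- Over `GF(p²)` one transvection gives the centre. -/
theorem ctr_of_one {p : ℕ} [Fact p.Prime] [CharP F p] (hqp : q = p) {M : Subgroup (GL (Fin 3) F)}
    {a : V} (haa : h a a = 0) {k : F} (hk0 : k ≠ 0) (hk : k + σ k = 0) {X : GL (Fin 3) F} (hXM : X ∈ M)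
    (hX : (X : Mn) = Cfsg.unitaryTransvection 3 q a k) : Ctr hF M a := by
  intro g c hc hg
  have hr : (c / k) ^ p = c / k := by
    rw [← hqp, ← frob_apply hF, map_div₀, eq_neg_of_add_eq_zero_right hc, eq_neg_of_add_eq_zero_right hk,
      neg_div_neg_eq]
  have hm : c / k ∈ (ZMod.castHom (dvd_refl p) F).fieldRange :=
    bot_le (a := (ZMod.castHom (dvd_refl p) F).fieldRange) ((Subfield.mem_bot_iff_pow_eq_self F p).2 hr)
  obtain ⟨z, hz⟩ := hm
  have hpow : ∀ m : ℕ, ((X ^ m : GL (Fin 3) F) : Mn) = Cfsg.unitaryTransvection 3 q a (m * k) := by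
    intro m
    refine Matrix.ext_of_mulVec_single fun j => ?_
    induction m with
    | zero => rw [pow_zero, Units.val_one, tmat_mulVec, Matrix.one_mulVec]; simp
    | succ m ih =>
      rw [pow_succ', Units.val_mul, ← Matrix.mulVec_mulVec, ih, hX, tmat_mulVec, tmat_mulVec, tmat_mulVec,
        h_add_left, h_smul_left, haa, mul_zero, add_zero, Nat.cast_succ, add_assoc, ← add_smul]
      congr 2
      ring
  have : g = X ^ z.val := Units.ext (by
    rw [hg, hpow]
    congr 1
    rw [ZMod.castHom_apply] at hz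
    rw [ZMod.natCast_val, hz, div_mul_cancel₀ _ hk0])
  rw [this]
  exact pow_mem hXM _

/-- Two non-commuting unipotents of the centraliser of the involution give everything. -/
theorem le_of_two_tv {p : ℕ} [Fact p.Prime] [CharP F p] (hqp : q = p) (hq : 3 ≤ q) {ω : F}
    (hr : Root ω) {M : Subgroup (GL (Fin 3) F)} (hMG : M ≤ GG)
    (hx : ∃ X₀ ∈ M, (X₀ : Mn) = Xm ω) {P : GL (Fin 3) F} (hP : IsFrame P)
    {U U' : Matrix.SpecialLinearGroup (Fin 2) F} (hU : U.1.trace = 2) (hU' : U'.1.trace = 2)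
    (hne : U * U' ≠ U' * U)
    (hUM : Matrix.SpecialLinearGroup.toGL (embSL P (Matrix.SpecialLinearGroup.toGL U)) ∈ M)
    (hUM' : Matrix.SpecialLinearGroup.toGL (embSL P (Matrix.SpecialLinearGroup.toGL U')) ∈ M) :
    Fintype.card F = q ^ 2 → GG ≤ M := by
  intro hF
  classical
  have h2 : (2 : F) ≠ 0 := hP.two
  -- each unipotent gives a centre in the minus space
  have one : ∀ U : Matrix.SpecialLinearGroup (Fin 2) F, U.1.trace = 2 → U ≠ 1 →
      Matrix.SpecialLinearGroup.toGL (embSL P (Matrix.SpecialLinearGroup.toGL U)) ∈ M →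
      ∃ (a : V) (k : F), h a a = 0 ∧ a ≠ 0 ∧ a 1 = a 2 ∧
        (embSL P (Matrix.SpecialLinearGroup.toGL U)).1 = Cfsg.unitaryTransvection 3 q a k ∧
        Ctr hF M a := by
    intro U hU hU1 hUM
    have hdet := U.2
    rw [Matrix.det_fin_two] at hdet
    rw [Matrix.trace_fin_two] at hU
    obtain ⟨u, φ, hu, hu2, hφ, hφ2, hφu, huφ⟩ : ∃ u φ : V, u ≠ 0 ∧ u 2 = 0 ∧ φ ≠ 0 ∧ φ 2 = 0 ∧
        φ ⬝ᵥ u = 0 ∧ ∀ i j : Fin 3, emb U.1 i j = (1 : Mn) i j + u i * φ j := by
      by_cases hb : U.1 0 1 = 0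
      · have e0 : U.1 0 0 = 1 := by
          have : (U.1 0 0 - 1) ^ 2 = 0 := by rw [hb] at hdet; linear_combination U.1 0 0 * hU - hdet
          exact sub_eq_zero.1 (pow_eq_zero_iff (two_ne_zero) |>.1 this)
        have e1 : U.1 1 1 = 1 := by linear_combination hU - e0
        refine ⟨![0, 1, 0], ![U.1 1 0, 0, 0], ?_, rfl, ?_, rfl, ?_, ?_⟩
        · intro e; simpa using congrFun e 1
        · intro e
          refine hU1 (Subtype.ext ?_)
          ext i j
          fin_cases i <;> fin_cases j <;> simp [hb, e0, e1, show U.1 1 0 = 0 by simpa using congrFun e 0]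
        · simp [dotProduct, Fin.sum_univ_three]
        · intro i j
          fin_cases i <;> fin_cases j <;> simp [emb, Matrix.det_fin_two, hb, e0, e1]
      · refine ⟨![U.1 0 1, U.1 1 1 - 1, 0], ![(U.1 0 0 - 1) / U.1 0 1, 1, 0], ?_, rfl, ?_, rfl, ?_, ?_⟩
        · intro e; exact hb (by simpa using congrFun e 0)
        · intro e; simpa using congrFun e 1
        · simp [dotProduct, Fin.sum_univ_three]
          field_simp
          linear_combination hU
        · intro i j
          fin_cases i <;> fin_cases j <;> simp [emb, Matrix.det_fin_two]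
          all_goals first
            | (field_simp; done)
            | (field_simp; ring1)
            | (rw [hdet]; simp; done)
            | (field_simp; linear_combination hU - hdet)
            | (field_simp; linear_combination hdet - hU)
            | (field_simp; linear_combination hdet + hU)
            | (field_simp; linear_combination -hdet - hU)
            | (field_simp; linear_combination hdet)
            | (field_simp; linear_combination -hdet)
            | ring
    set Z := embSL P (Matrix.SpecialLinearGroup.toGL U)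
    set a : V := P.1 *ᵥ u with had
    set ψ : V := φ ᵥ* (P⁻¹).1 with hψd
    have hZv : ∀ v, Z.1 *ᵥ v = v + (ψ ⬝ᵥ v) • a := fun v => by
      show (P.1 * emb U.1 * (P⁻¹).1) *ᵥ v = _
      have he : emb U.1 = 1 + Matrix.vecMulVec u φ := by
        ext i j; rw [huφ, Matrix.add_apply, Matrix.vecMulVec_apply]
      rw [he, Matrix.mul_add, Matrix.add_mul, mul_one, Units.mul_inv, Matrix.add_mulVec, Matrix.one_mulVec,
        ← Matrix.mulVec_mulVec, ← Matrix.mulVec_mulVec, Matrix.vecMulVec_mulVec, op_smul_eq_smul,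
        Matrix.mulVec_smul, hψd, had, dotProduct_mulVec]
    have ha : a ≠ 0 := fun e => hu (by
      simpa [had, Matrix.mulVec_mulVec] using congrArg ((P⁻¹).1 *ᵥ ·) e)
    have hψ : ψ ≠ 0 := fun e => hφ (by
      simpa [hψd, Matrix.vecMul_vecMul] using congrArg (· ᵥ* P.1) e)
    have h0 : ψ ⬝ᵥ a = 0 := by
      rw [hψd, had, ← dotProduct_mulVec, Matrix.mulVec_mulVec, Units.inv_mul, Matrix.one_mulVec, hφu]
    have hiso : ∀ u v, h (Z.1 *ᵥ u) (Z.1 *ᵥ v) = h u v := (hMG hUM).1
    obtain ⟨haa, k, hk0, hk, hZ⟩ := tv_of_rankone (hF := hF) hiso ha hψ h0 hZv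
    refine ⟨a, k, haa, ha, ?_, hZ, ctr_of_one hqp haa hk0 hk hUM hZ⟩
    have hTa : (Tm : Mn) *ᵥ a = -a := by
      rw [hP.eq, had, Matrix.mulVec_mulVec, mul_assoc, Units.inv_mul, mul_one, ← Matrix.mulVec_mulVec,
        ← Matrix.mulVec_neg]
      congr 1
      funext i
      rw [Matrix.mulVec_diagonal]
      fin_cases i <;> simp [dvec, hu2]
    have := congrFun hTa 1
    simp [Tm, Matrix.mulVec, dotProduct, Fin.sum_univ_three] at this
    exact this.symm
  have hU1 : U ≠ 1 := fun e => hne (by rw [e, one_mul, mul_one])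
  have hU1' : U' ≠ 1 := fun e => hne (by rw [e, one_mul, mul_one])
  obtain ⟨a, k, haa, ha, ha12, hA, hCA⟩ := one U hU hU1 hUM
  obtain ⟨b, l, hbb, -, hb12, hB, hCB⟩ := one U' hU' hU1' hUM'
  have hab : h a b ≠ 0 := by
    intro e
    have e' : h b a = 0 := (h_eq_zero_swap hF).1 e
    refine hne ?_
    have hcom : (embSL P (Matrix.SpecialLinearGroup.toGL U)).1 *
        (embSL P (Matrix.SpecialLinearGroup.toGL U')).1 =
        (embSL P (Matrix.SpecialLinearGroup.toGL U')).1 * (embSL P (Matrix.SpecialLinearGroup.toGL U)).1 := by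
      rw [hA, hB]
      refine Matrix.ext_of_mulVec_single fun j => ?_
      rw [← Matrix.mulVec_mulVec, ← Matrix.mulVec_mulVec, tmat_mulVec, tmat_mulVec, tmat_mulVec, tmat_mulVec,
        h_add_left, h_add_left, h_smul_left, h_smul_left, e, e']
      module
    change P.1 * emb U.1 * (P⁻¹).1 * (P.1 * emb U'.1 * (P⁻¹).1) =
      P.1 * emb U'.1 * (P⁻¹).1 * (P.1 * emb U.1 * (P⁻¹).1) at hcom
    have h3 := congrArg (fun Z => (P⁻¹).1 * Z * P.1) hcom
    simp only [mul_assoc, Units.inv_mul_cancel_left, Units.inv_mul, mul_one] at h3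
    refine Subtype.ext ?_
    ext i j
    have h4 := congrFun (congrFun h3 i.castSucc) j.castSucc
    fin_cases i <;> fin_cases j <;>
      simpa [emb, Matrix.mul_apply, Fin.sum_univ_three, Fin.sum_univ_two] using h4
  -- the axis
  set c : V := ![0, 1, -1] with hcd
  have hσ1 : (-1 : F) ^ q = -1 := by rw [← frob_apply hF, map_neg, map_one]
  have h0q : (0 : F) ^ q = 0 := zero_pow (by omega)
  have hhc : ∀ v : V, h v c = v 1 - v 2 := fun v => by
    simp [Cfsg.hermForm, hcd, Fin.sum_univ_three, hσ1, h0q]; ring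
  have hcc : h c c ≠ 0 := by
    rw [hhc, hcd]
    simpa [sub_neg_eq_add, one_add_one_eq_two] using h2
  -- the diagonal element moves the centre off the minus space
  obtain ⟨X₀, hX₀M, hX₀⟩ := hx
  have hXG := hMG hX₀M
  have hxX : h ((X₀ : Mn) *ᵥ a) ((X₀ : Mn) *ᵥ a) = 0 := by rw [G_isometry hXG, haa]
  refine top_of_line hq hcc haa hbb hab (by rw [hhc, ha12, sub_self]) (by rw [hhc, hb12, sub_self])
    hCA hCB hxX ?_ (hCA.conj hX₀M hXG)
  rw [hhc, hX₀]
  simp [Xm, Matrix.mulVec_diagonal, ← ha12, sub_eq_zero]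
  refine ⟨fun e => ?_, fun e => ?_⟩
  · exact hr.ne_one (mul_left_cancel₀ hr.ne_zero (by rw [mul_one]; exact e.symm))
  · have ha2 : a 2 = 0 := ha12 ▸ e
    rw [Cfsg.hermForm, Fin.sum_univ_three, e, ha2, zero_mul, add_zero, add_zero, mul_eq_zero] at haa
    have ha0 : a 0 = 0 := haa.elim id fun e0 => (pow_eq_zero_iff (by omega)).1 e0
    exact ha (by funext i; fin_cases i <;> assumption)

end CfsgLib.MaxSub.SU3Max.Hess
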