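/-
The Hessian subgroups are maximal in `SU_3(p)`.
-/
import Cfsg.Agent.Lib.MaxSub.SU3Max.Hess.Norm
import Cfsg.Agent.Lib.MaxSub.SU3Max.Hess.Tv
import Cfsg.Agent.Lib.MaxSub.SU3Max.Hess.Iso
import Cfsg.Agent.Lib.Heis27.Unitary
import Cfsg.Agent.Lib.Aschbacher.UnitaryProper
import Cfsg.Agent.Lib.MaxSub.SLThree.Hess.Main

set_option autoImplicit false
set_option maxHeartbeats 800000
set_option linter.unusedSectionVars false

namespace CfsgLib.MaxSub.SU3Max.Hess

open Matrix Cfsg CfsgLib.UnitaryTransvection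
open CfsgLib.MaxSub.SLThree.Hess (Root root_of_cube Xm Ym Tm Fm Gm sX sY sF sG E px py pf pg px_mem py_mem mem_E
  E_comm mk_eq_iff mk_surj XY val_mul IsFrame Φ embSL Q_norm)

universe u

variable {F : Type u} [Field F] [Fintype F] {q : ℕ}

local notation "mk'" => CfsgLib.MaxSub.SLThree.Hess.mk
local notation "V" => Fin 3 → F
local notation "hf" => Cfsg.hermForm 3 F q
local notation "Mn" => Matrix (Fin 3) (Fin 3) F
local notation "SL" => Matrix.SpecialLinearGroup (Fin 3) F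
local notation "P3" => Matrix.ProjectiveSpecialLinearGroup (Fin 3) F
local notation "GG" => Cfsg.GU 3 F q ⊓ Cfsg.Geo.specialLinear (Fin 3) F

variable {p : ℕ} {R : Subgroup (GL (Fin 3) F)}

/-- In the given situation the group is unitary. -/
theorem le_GU (hF : Fintype.card F = q ^ 2) (hqp : q = p) [Fact p.Prime] [CharP F p] (hp3 : p % 3 = 2)
    (hexp : Monoid.exponent R = 3) (hRs : R ≤ Cfsg.Geo.similarityGroup hf) : R ≤ Cfsg.GU 3 F q := by
  intro g hg
  obtain ⟨c, hc⟩ := hRs hg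
  have h3 : g ^ 3 = 1 := by
    have := Monoid.pow_exponent_eq_one (⟨g, hg⟩ : R)
    rw [hexp] at this
    exact congrArg Subtype.val this
  have h1 : hf (Pi.single 0 1) (Pi.single 0 1) = 1 := by
    rw [Cfsg.hermForm, Finset.sum_eq_single 0 (fun i _ hi => by simp [hi]) (by simp)]
    simp
  have hcu : (c : F) ^ 3 = 1 := by
    have e : hf ((g ^ 3 : GL (Fin 3) F).1 *ᵥ Pi.single 0 1) ((g ^ 3 : GL (Fin 3) F).1 *ᵥ Pi.single 0 1) =
        (c : F) ^ 3 * hf (Pi.single 0 1) (Pi.single 0 1) := by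
      rw [pow_succ', pow_two]
      simp only [Units.val_mul, ← Matrix.mulVec_mulVec, hc]
      ring
    rw [h3, Units.val_one, Matrix.one_mulVec, h1, mul_one] at e
    exact e.symm
  have hcσ : (c : F) ^ p = c := by
    have e := hc (Pi.single 0 1) (Pi.single 0 1)
    rw [h1, mul_one] at e
    have := h_swap hF (g.1 *ᵥ Pi.single 0 1) (g.1 *ᵥ Pi.single 0 1)
    rwa [e, frob_apply, hqp] at this
  have hc1 : (c : F) = 1 := by
    have h1 : (c : F) ^ (p - 1) = 1 := by
      refine mul_right_cancel₀ c.ne_zero ?_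
      rw [one_mul, ← pow_succ, Nat.sub_add_cancel (Fact.out : p.Prime).one_le, hcσ]
    rwa [← Nat.mod_add_div (p - 1) 3, show (p - 1) % 3 = 1 by omega, pow_add, pow_mul, hcu, one_pow, mul_one,
      pow_one] at h1
  intro u v
  show hf (g.1 *ᵥ u) (g.1 *ᵥ v) = hf u v
  rw [hc, hc1, one_mul]

/-- The Hessian subgroups are maximal. -/
theorem su3_symplectic_maximal (hF : Fintype.card F = q ^ 2) (hp : p.Prime) (hqp : q = p) (hp3 : p % 3 = 2)
    (hp11 : 11 ≤ p) (hR : Cfsg.Geo.IsSymplecticTypeGroup 3 R)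
    (habs : Cfsg.Geo.ActsAbsolutelyIrreducibly (Cfsg.Geo.matrixSet R))
    (hRs : R ≤ Cfsg.Geo.similarityGroup hf) (h27 : Nat.card R = 27)
    (hZ : Nat.card (Subgroup.center R) = 3) :
    Cfsg.Geo.IsMaximalIn GG (Cfsg.Geo.subgroupNormalizer R ⊓ GG) := by
  classical
  haveI : Fact p.Prime := ⟨hp⟩
  haveI hchar : CharP F p := by
    obtain ⟨r, hr⟩ := CharP.exists F
    obtain ⟨n, hrp, hn⟩ := FiniteField.card F r
    have : r = p := (Nat.prime_dvd_prime_iff_eq hrp hp).1
      (hrp.dvd_of_dvd_pow (by rw [← hqp, ← hF, hn]; exact dvd_pow_self r n.pos.ne'))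
    exact this ▸ hr
  have h3 : (3 : F) ≠ 0 := fun e => by
    have := (CharP.cast_eq_zero_iff F p 3).1 (by exact_mod_cast e)
    have := Nat.le_of_dvd (by norm_num) this
    omega
  have hexp : Monoid.exponent R = 3 := by rw [hR.exponent_eq]; norm_num
  have hna : ¬ IsMulCommutative R := fun hc => by
    have e : Subgroup.center R = ⊤ :=
      eq_top_iff.2 fun x _ => Subgroup.mem_center_iff.2 fun y => hc.is_comm.comm y x
    rw [e, Subgroup.card_top, h27] at hZ
    norm_num at hZ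
  have hRU := le_GU hF hqp hp3 hexp hRs
  haveI : Fact (Nat.Prime 3) := ⟨Nat.prime_three⟩
  have hq3 : 3 ∣ q + 1 := by omega
  obtain ⟨ζ, hζ⟩ : ∃ ζ : F, IsPrimitiveRoot ζ 3 := by
    obtain ⟨u, hu⟩ := exists_prime_orderOf_dvd_card (G := Fˣ) 3 (by
      rw [Fintype.card_units, hF, show q ^ 2 - 1 = (q + 1) * (q - 1) from
        (by simpa using Nat.sq_sub_sq q 1)]
      exact hq3.mul_right _)
    refine ⟨u, ?_⟩
    rw [← hu, ← orderOf_units]
    exact IsPrimitiveRoot.orderOf _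
  obtain ⟨g, ω, hgU, hω, a, b, hab, ha, hb⟩ :=
    CfsgLib.Heis27.exists_std_unitary hF h3 hζ hq3 R hRU h27 hexp hna
  have hr : Root ω := root_of_cube h3 hω.pow_eq_one (hω.ne_one (by norm_num))
  let θ : SL →* GL (Fin 3) F :=
    (MulAut.conj g).toMonoidHom.comp (Matrix.SpecialLinearGroup.toGL (n := Fin 3) (R := F))
  have hθi : Function.Injective θ := fun A B e =>
    Matrix.SpecialLinearGroup.toGL_injective ((MulAut.conj g).injective e)
  have hθS : ∀ A, θ A ∈ Cfsg.Geo.specialLinear (Fin 3) F := fun A => by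
    refine MonoidHom.mem_ker.2 ?_
    show Matrix.GeneralLinearGroup.det (g * Matrix.SpecialLinearGroup.toGL A * g⁻¹) = 1
    rw [map_mul, map_mul, map_inv, mul_comm, inv_mul_cancel_left]
    exact Units.ext A.2
  have hθU : ∀ A, θ A ∈ Cfsg.GU 3 F q ↔ Matrix.SpecialLinearGroup.toGL A ∈ Cfsg.GU 3 F q := fun A => by
    refine ⟨fun hA => ?_, fun hA => mul_mem (mul_mem hgU hA) (inv_mem hgU)⟩
    have := mul_mem (mul_mem (inv_mem hgU) hA) hgU
    rwa [show g⁻¹ * θ A * g = Matrix.SpecialLinearGroup.toGL A from by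
      show g⁻¹ * (g * Matrix.SpecialLinearGroup.toGL A * g⁻¹) * g = _; group] at this
  have hθs : ∀ m ∈ Cfsg.Geo.specialLinear (Fin 3) F, ∃ A, θ A = m := fun m hm => by
    refine ⟨⟨(g⁻¹ * m * g : GL (Fin 3) F), ?_⟩, ?_⟩
    · have h1 : Matrix.GeneralLinearGroup.det (g⁻¹ * m * g) = 1 := by
        rw [map_mul, map_mul, map_inv, MonoidHom.mem_ker.1 hm, mul_one, inv_mul_cancel]
      exact congrArg Units.val h1
    · show g * _ * g⁻¹ = m
      calc _ = g * (g⁻¹ * m * g) * g⁻¹ := by congr 2; exact Units.ext rfl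
        _ = m := by group
  have hθX : θ (sX hr) = a := by
    show g * Matrix.SpecialLinearGroup.toGL (sX hr) * g⁻¹ = a
    rw [show Matrix.SpecialLinearGroup.toGL (sX hr) = g⁻¹ * a * g from Units.ext (by
      rw [ha]; show Xm ω = _; rw [Xm, CfsgLib.Heis27.aMat, pow_two])]
    group
  have hθY : θ sY = b := by
    show g * Matrix.SpecialLinearGroup.toGL sY * g⁻¹ = b
    rw [show Matrix.SpecialLinearGroup.toGL (sY : SL) = g⁻¹ * b * g from Units.ext (by rw [hb]; rfl)]
    group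
  set R0 := Subgroup.closure ({sX hr, sY} : Set SL) with hR0
  have hRmap : R0.map θ = R := by
    rw [hR0, MonoidHom.map_closure, Set.image_pair, hθX, hθY, hab]
  have hR0E : R0 = (E hr).comap mk' := by
    refine le_antisymm ((Subgroup.closure_le _).2 ?_) fun A hA => ?_
    · rintro _ (rfl | rfl)
      · exact px_mem hr
      · exact py_mem hr
    · obtain ⟨i, j, hij⟩ := (mem_E hr).1 hA
      rw [px, py, ← map_pow, ← map_pow, ← map_mul] at hij
      obtain ⟨c, hc, hcA⟩ := mk_eq_iff.1 hij.symm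
      have hX0 : sX hr ∈ R0 := Subgroup.subset_closure (Or.inl rfl)
      have hY0 : (sY : SL) ∈ R0 := Subgroup.subset_closure (Or.inr rfl)
      set W := sX hr * sY * (sX hr)⁻¹ * sY⁻¹ with hW
      have hW0 : W ∈ R0 := mul_mem (mul_mem (mul_mem hX0 hY0) (inv_mem hX0)) (inv_mem hY0)
      have hWv : W.1 = ω • (1 : Mn) := by
        have e1 : (W * (sY * sX hr)).1 = ω • (sY * sX hr : SL).1 := by
          rw [hW, show sX hr * sY * (sX hr)⁻¹ * sY⁻¹ * (sY * sX hr) = sX hr * sY by group]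
          exact XY hr
        have e2 := congrArg (fun M => M * ((sY * sX hr)⁻¹ : SL).1) e1
        simp only [← val_mul, mul_inv_cancel_right, Matrix.smul_mul, mul_inv_cancel] at e2
        exact e2
      obtain ⟨k, hk⟩ : ∃ k : ℕ, c = ω ^ k := by
        rcases hr.cases hc with e | e | e
        · exact ⟨0, by rw [e, pow_zero]⟩
        · exact ⟨1, by rw [e, pow_one]⟩
        · exact ⟨2, by rw [e, pow_two]⟩
      have : A = W ^ k * (sX hr ^ (i : ℕ) * sY ^ (j : ℕ)) := Subtype.ext (by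
        show A.1 = (W ^ k).1 * (sX hr ^ (i : ℕ) * sY ^ (j : ℕ)).1
        rw [Matrix.SpecialLinearGroup.coe_pow, hWv, smul_pow, one_pow, Matrix.smul_mul, one_mul, ← hk]
        exact hcA)
      rw [this]
      exact mul_mem (pow_mem hW0 _) (mul_mem (pow_mem hX0 _) (pow_mem hY0 _))
  have hnorm : ∀ A : SL, θ A ∈ Cfsg.Geo.subgroupNormalizer R ↔
      mk' A ∈ Subgroup.normalizer ((E hr : Subgroup P3) : Set P3) := fun A => by
    constructor
    · intro hA
      rw [Subgroup.mem_normalizer_iff]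
      intro e
      obtain ⟨B, rfl⟩ := mk_surj e
      rw [← map_inv, ← map_mul, ← map_mul, ← Subgroup.mem_comap, ← Subgroup.mem_comap, ← hR0E]
      have := Subgroup.mem_normalizer_iff.1 hA (θ B)
      rw [← map_inv, ← map_mul, ← map_mul, ← hRmap, Subgroup.mem_map_iff_mem hθi,
        Subgroup.mem_map_iff_mem hθi] at this
      exact this
    · intro hA
      have hfwd : ∀ r, r ∈ R → θ A * r * (θ A)⁻¹ ∈ R := fun r hr' => by
        rw [← hRmap] at hr' ⊢
        obtain ⟨B, hB, rfl⟩ := hr'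
        rw [← map_inv, ← map_mul, ← map_mul, Subgroup.mem_map_iff_mem hθi]
        simp only [SetLike.mem_coe, hR0E, Subgroup.mem_comap] at hB ⊢
        rw [map_mul, map_mul, map_inv]
        exact (Subgroup.mem_normalizer_iff.1 hA _).1 hB
      show θ A ∈ Subgroup.normalizer (R : Set (GL (Fin 3) F))
      rw [Subgroup.mem_normalizer_iff]
      refine fun r => ⟨hfwd r, fun hr' => ?_⟩
      rw [← hRmap] at hr' ⊢
      obtain ⟨B, hB, hBe⟩ := hr'
      refine ⟨A⁻¹ * B * A, ?_, ?_⟩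
      · show A⁻¹ * B * A ∈ R0
        change B ∈ R0 at hB
        rw [hR0E, Subgroup.mem_comap] at hB ⊢
        rw [map_mul, map_mul, map_inv]
        exact (Subgroup.mem_normalizer_iff''.1 hA _).1 hB
      · rw [map_mul, map_mul, map_inv, hBe]
        group
  have hRS : R ≤ GG := fun x hx => ⟨hRU hx, by
    rw [← hRmap] at hx
    obtain ⟨B, -, rfl⟩ := hx
    exact hθS B⟩
  refine ⟨lt_of_le_of_ne inf_le_right fun e => ?_, fun M hM hMS => ?_⟩
  · refine CfsgLib.Aschbacher.not_SU_le_normalizer_extraspecial hF (n := 3) (p := p) (by decide)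
      (Or.inr ⟨by omega, by omega⟩) habs (by rw [h27]; norm_num) (fun x hx y hy => ?_)
      (le_of_eq_of_le e.symm inf_le_left)
    rw [← hRmap] at hx hy
    obtain ⟨A, hA, rfl⟩ := hx
    obtain ⟨B, hB, rfl⟩ := hy
    rw [← map_inv, ← map_inv, ← map_mul, ← map_mul, ← map_mul]
    rw [hR0E] at hA hB
    have h1 : mk' (A * B * A⁻¹ * B⁻¹) = (1 : P3) := by
      rw [map_mul, map_mul, map_mul, map_inv, map_inv, E_comm hr hA hB]; group
    obtain ⟨c, hc, hc'⟩ := CfsgLib.MaxSub.SLThree.Hess.mk_eq_one.1 h1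
    have hc0 : c ≠ 0 := fun e => by rw [e] at hc; simp at hc
    refine (Cfsg.Geo.mem_scalars_iff _).2 ⟨Units.mk0 c hc0, ?_⟩
    show g.1 * (A * B * A⁻¹ * B⁻¹ : SL).1 * (g⁻¹).1 = c • (1 : Mn)
    rw [hc', Matrix.mul_smul, mul_one, Matrix.smul_mul, Units.mul_inv]
  · set K := M.comap θ with hK
    set G := K.map mk' with hG
    have hKU : ∀ A ∈ K, Matrix.SpecialLinearGroup.toGL A ∈ Cfsg.GU 3 F q := fun A hA =>
      (hθU A).1 (hMS hA).1
    have hR0K : R0 ≤ K := fun A hA => hM ⟨Subgroup.le_normalizer (hRmap.le ⟨A, hA, rfl⟩),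
      hRS (hRmap.le ⟨A, hA, rfl⟩)⟩
    have hGK : ∀ A, mk' A ∈ G → A ∈ K := by
      rintro A ⟨B, hB, hBe⟩
      have hd : B⁻¹ * A ∈ R0 := by
        rw [hR0E, Subgroup.mem_comap, map_mul, map_inv, hBe, inv_mul_cancel]
        exact one_mem _
      have := K.mul_mem hB (hR0K hd)
      rwa [mul_inv_cancel_left] at this
    have hKmem : ∀ A : SL, mk' A ∈ Subgroup.normalizer ((E hr : Subgroup P3) : Set P3) →
        Matrix.SpecialLinearGroup.toGL A ∈ Cfsg.GU 3 F q → mk' A ∈ G := fun A hA hU =>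
      ⟨A, hM ⟨(hnorm A).2 hA, (hθU A).2 hU, hθS A⟩, rfl⟩
    have hEG : E hr ≤ G := fun e he => by
      obtain ⟨A, rfl⟩ := mk_surj e
      exact ⟨A, hR0K (by rw [hR0E]; exact he), rfl⟩
    have hp3' : q % 3 = 2 := by omega
    have hf' : pf hr ∈ G := hKmem (sF hr) (Q_norm hr (Subgroup.subset_closure (Or.inl rfl)))
      fun u v => iso_Fm hF hr hp3' u v
    have hg' : pg hr ∈ G := hKmem (sG hr) (Q_norm hr (Subgroup.subset_closure (Or.inr rfl)))
      fun u v => iso_Gm hF hr hp3' u v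
    by_cases htop : GG ≤ M
    · exact Or.inr (le_antisymm hMS htop)
    left
    have hGtop : G ≠ ⊤ := fun e => by
      let T : SL := ⟨!![1, 1, 0; 0, 1, 0; 0, 0, 1], by simp [Matrix.det_fin_three]⟩
      have hT := hKU T (hGK T (by rw [e]; exact Subgroup.mem_top _))
      have h1 : hf (T.1 *ᵥ Pi.single 1 1) (T.1 *ᵥ Pi.single 1 1) = hf (Pi.single 1 1) (Pi.single 1 1) :=
        hT _ _
      have hq0 : q ≠ 0 := by omega
      simp [T, Cfsg.hermForm, Matrix.mulVec, dotProduct, Fin.sum_univ_three, hq0] at h1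
    have noTv : ∀ (P : GL (Fin 3) F), IsFrame P → ∀ U U' : Matrix.SpecialLinearGroup (Fin 2) F,
        U.1.trace = 2 → U'.1.trace = 2 → U * U' ≠ U' * U → Φ P (Matrix.SpecialLinearGroup.toGL U) ∈ G →
        Φ P (Matrix.SpecialLinearGroup.toGL U') ∈ G → False := by
      intro P hP U U' hU hU' hne h1 h1'
      let Mg : Subgroup (GL (Fin 3) F) := K.map Matrix.SpecialLinearGroup.toGL
      have hMg : Mg ≤ GG := by
        rintro _ ⟨A, hA, rfl⟩
        exact ⟨hKU A hA, MonoidHom.mem_ker.2 (Units.ext A.2)⟩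
      have hle : GG ≤ Mg := le_of_two_tv hqp (by omega) hr hMg
        ⟨_, ⟨sX hr, hR0K (Subgroup.subset_closure (Or.inl rfl)), rfl⟩, rfl⟩ hP hU hU' hne
        ⟨_, hGK _ h1, rfl⟩ ⟨_, hGK _ h1', rfl⟩ hF
      refine htop fun m hm => ?_
      obtain ⟨A, rfl⟩ := hθs m hm.2
      obtain ⟨B, hB, hBe⟩ := hle ⟨(hθU A).1 hm.1, MonoidHom.mem_ker.2 (Units.ext A.2)⟩
      rwa [Matrix.SpecialLinearGroup.toGL_injective hBe] at hB
    have hinv := normalises (p := p) (by rw [hF, hqp]) (by omega) hEG hf' hg' hGtop noTv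
    refine le_antisymm (fun m hm => ⟨?_, hMS hm⟩) hM
    obtain ⟨A, rfl⟩ := hθs m (hMS hm).2
    refine (hnorm A).2 ?_
    have hAG : mk' A ∈ G := ⟨A, hm, rfl⟩
    rw [Subgroup.mem_normalizer_iff]
    refine fun e => ⟨hinv _ hAG e, fun he => ?_⟩
    have := hinv _ (inv_mem hAG) _ he
    rwa [inv_inv, show (mk' A : P3)⁻¹ * (mk' A * e * (mk' A)⁻¹) * mk' A = e by group] at this

end CfsgLib.MaxSub.SU3Max.Hess
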